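import Mathlib
import Cfsg.Agent.S0243
import Cfsg.Agent.S4341
import Cfsg.Agent.Lib.SylNum.Basic
import Cfsg.Agent.Lib.SmallSimple.Basic
import Cfsg.Agent.Lib.PLocal.PSolvable
import Cfsg.Agent.Lib.Fgs.SylowNumber

/-!
Groups with fewer than `p ^ 2` Sylow `p`-subgroups: the Sylow numbers of the simple groups of the
list, and the reduction of the statements on arbitrary groups to the simple case.
-/

set_option autoImplicit false
set_option linter.unusedSectionVars false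
set_option linter.style.haveILetI false

namespace CfsgLib.FewSylW

open Subgroup MulAction Cfsg

universe u

/-- the list of simple groups with fewer than `p ^ 2` Sylow `p`-subgroups -/
def Concl (p : ℕ) (S : Type*) [Group S] : Prop :=
  (∃ (F : Type) (_ : Field F) (_ : Fintype F), Fintype.card F = p ∧
      Nonempty (S ≃* Matrix.ProjectiveSpecialLinearGroup (Fin 2) F)) ∨
    (p = 13 ∧ ∃ (F : Type) (_ : Field F) (_ : Fintype F), Fintype.card F = 3 ∧
      Nonempty (S ≃* Matrix.ProjectiveSpecialLinearGroup (Fin 3) F)) ∨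
    (3 < p ∧ (∃ k : ℕ, p = 2 ^ k + 1) ∧ ∃ (F : Type) (_ : Field F) (_ : Fintype F),
      Fintype.card F = p - 1 ∧ Nonempty (S ≃* Matrix.ProjectiveSpecialLinearGroup (Fin 2) F)) ∨
    (3 < p ∧ (∃ k : ℕ, p + 1 = 2 ^ k) ∧ ∃ (F : Type) (_ : Field F) (_ : Fintype F),
      Fintype.card F = p + 1 ∧ Nonempty (S ≃* Matrix.ProjectiveSpecialLinearGroup (Fin 2) F))

/-- the hard direction of the theorem on simple groups -/
def Fwd (p : ℕ) [Fact p.Prime] : Prop :=
  ∀ (S : Type u) [Group S] [Finite S] [IsSimpleGroup S], ¬ IsMulCommutative S → p ∣ Nat.card S →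
    Nat.card (Sylow p S) < p ^ 2 → Concl p S

/-- the Sylow numbers of the list -/
def Num (p n : ℕ) : Prop :=
  (3 < p ∧ n = 1 + p) ∨ (p = 13 ∧ n = 144) ∨
    (3 < p ∧ (∃ k : ℕ, p = 2 ^ k + 1) ∧ 2 * n = 2 + (p - 3) * p) ∨
    (3 < p ∧ (∃ k : ℕ, p + 1 = 2 ^ k) ∧ 2 * n = 2 + (p + 3) * p)

variable {p : ℕ} [hp : Fact p.Prime]

section simple

variable {S : Type*} [Group S] [Finite S] [IsSimpleGroup S]

theorem card_psl2 {F : Type*} [Field F] [Fintype F] {q : ℕ} (hq : Fintype.card F = q + 1)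
    (e : S ≃* Matrix.ProjectiveSpecialLinearGroup (Fin 2) F) :
    Nat.gcd 2 q * Nat.card S = (q + 1) * (q * (q + 2)) := by
  have h := Cfsg.Agent.S0243.result hq 2 le_rfl
  have h1 : 1 < q + 1 := hq ▸ Fintype.one_lt_card
  rw [← Nat.card_congr e.toEquiv, Nat.add_sub_cancel] at h
  simp only [Fin.prod_univ_two, Fin.val_zero, Fin.val_one, pow_zero, pow_one] at h
  have h2 : (q + 1) ^ 2 - 1 = q * (q + 2) := Nat.sub_eq_of_eq_add (by ring)
  have h3 : (q + 1) ^ 2 - (q + 1) = q * (q + 1) := Nat.sub_eq_of_eq_add (by ring)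
  rw [h2, h3] at h
  refine Nat.eq_of_mul_eq_mul_left (show 0 < q by omega) ?_
  linarith

theorem exists_mul {r : ℕ} (hG : Nat.card S = p * r) (hr : ¬ p ∣ r) (hr1 : r ≠ 1) :
    ∃ a m, 0 < a ∧ Nat.card (Sylow p S) = 1 + a * p ∧ (1 + a * p) * m = r := by
  have hG' : Nat.card S = p ^ 1 * r := by rw [pow_one, hG]
  obtain ⟨m, hm⟩ := PSL2Rec.card_sylow_dvd_of_eq hG' hr
  have h1 := PSL2Rec.card_sylow_ne_one hG' hr one_ne_zero hr1
  have h2 := PSL2Rec.card_sylow_mod (p := p) (G := S)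
  have h3 := Nat.div_add_mod' (Nat.card (Sylow p S)) p
  refine ⟨Nat.card (Sylow p S) / p, m, Nat.pos_of_ne_zero fun h => h1 ?_, by omega, ?_⟩
  · rw [h] at h3; omega
  · rw [hm]; congr 1; omega

theorem arith_mod {p a m c r : ℕ} (h : (1 + a * p) * m = r * p + c) (hc : c < p) :
    ∃ b, m = b * p + c := by
  refine ⟨m / p, ?_⟩
  have h1 : ((1 + a * p) * m) % p = m % p := by
    rw [add_mul, one_mul, mul_right_comm, Nat.add_mul_mod_self_right]
  rw [h, add_comm, Nat.add_mul_mod_self_right, Nat.mod_eq_of_lt hc] at h1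
  rw [h1, Nat.div_add_mod']

theorem ne_27 [Fact (Nat.Prime 13)] (hG : Nat.card S = 5616) : Nat.card (Sylow 13 S) ≠ 27 := by
  intro h
  obtain ⟨P⟩ : Nonempty (Sylow 13 S) := inferInstance
  have h1 := PSL2Rec.card_sylow_mul_card_normalizer P
  have h2 : Nat.card (P : Subgroup S) = 13 ^ 1 :=
    PSL2Rec.card_sylow_of_eq (m := 432) (by rw [hG]; norm_num) (by norm_num) P
  have h3 := PSL2Rec.relIndex_centralizer_dvd_of_prime (p := 13) (P : Subgroup S) h2
  have h4 := PLocal.PSolv.card_eq_relIndex_mul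
    (centralizer_le_normalizer ((P : Subgroup S) : Set S))
  rw [h, hG] at h1
  have h5 : 2 ∣ Nat.card (centralizer ((P : Subgroup S) : Set S)) := by
    by_contra h6
    have h7 : 16 ∣ Nat.card (normalizer ((P : Subgroup S) : Set S)) := ⟨13, by omega⟩
    rw [h4] at h7
    have h8 := (((Nat.prime_two.coprime_iff_not_dvd.2 h6).pow_left 4).dvd_of_dvd_mul_left h7).trans h3
    omega
  obtain ⟨c, hc⟩ := exists_prime_orderOf_dvd_card' 2 h5
  rw [← orderOf_coe] at hc
  have h6 := SylNum.card_fixedBy_mod_of_mem_centralizer P c.2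
  have h7 := SylNum.card_fixedBy_sylow_lt (p := 13) (by omega)
    (PSL2Rec.ne_one_of_orderOf_prime Nat.prime_two hc)
  have h8 := PSL2Rec.simple_involution_moved (G := S) (by rw [hG]; norm_num) (Sylow 13 S)
    (x := c) (by rw [← hc, pow_orderOf_eq_one])
  rw [h] at h7 h8
  unfold Nat.ModEq at h8
  omega

theorem num_of_concl (hS : ¬ IsMulCommutative S) (h : Concl p S) :
    Num p (Nat.card (Sylow p S)) := by
  have hp2 := hp.out.two_le
  rcases h with ⟨F, _, _, hF, ⟨e⟩⟩ | ⟨rfl, F, _, _, hF, ⟨e⟩⟩ | ⟨h3, ⟨k, hk⟩, F, _, _, hF, ⟨e⟩⟩ |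
    ⟨h3, ⟨k, hk⟩, F, _, _, hF, ⟨e⟩⟩
  · obtain ⟨q, rfl⟩ : ∃ q, p = q + 1 := ⟨p - 1, by omega⟩
    have h1 := card_psl2 hF e
    have hq1 : q ≠ 1 := by
      rintro rfl
      have := SylNum.four_dvd_of_two_dvd hS ⟨3, by norm_num at h1; omega⟩
      norm_num at h1
      omega
    obtain ⟨j, rfl⟩ : ∃ j, q = 2 * j := by
      obtain ⟨j, hj⟩ := hp.out.odd_of_ne_two (by omega)
      exact ⟨j, by omega⟩
    rw [Nat.gcd_eq_left (dvd_mul_right 2 j)] at h1
    have h2 : Nat.card S = (2 * j + 1) * (j * (2 * j + 2)) := by linarith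
    have hj : 0 < j := by omega
    obtain ⟨a, m, ha, hn, hm⟩ := exists_mul h2 (fun h => by
      rcases (Nat.Prime.dvd_mul hp.out).1 h with h | h
      · have := Nat.le_of_dvd hj h; omega
      · have := (Nat.dvd_add_right (dvd_refl (2 * j + 1))).1 (show _ ∣ 2 * j + 1 + 1 from h)
        exact hp.out.ne_one (Nat.dvd_one.1 this)) (by nlinarith)
    obtain ⟨b, hb⟩ := arith_mod (r := j) (c := j) (hm.trans (by ring)) (by omega)
    have h4 : a = 1 := by
      subst hb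
      by_contra h5
      have h6 : (1 + 2 * (2 * j + 1)) * j ≤ (1 + a * (2 * j + 1)) * (b * (2 * j + 1) + j) :=
        Nat.mul_le_mul (by nlinarith [show 2 ≤ a by omega]) (Nat.le_add_left _ _)
      nlinarith
    subst h4
    refine Or.inl ⟨?_, by omega⟩
    by_contra h5
    obtain rfl : j = 1 := by omega
    obtain ⟨P⟩ : Nonempty (Sylow 2 S) := inferInstance
    have h6 : Nat.card S = 2 ^ 2 * 3 := h2
    have h7 := PSL2Rec.index_sylow_of_eq h6 (by norm_num) P
    have h8 := PSL2Rec.simple_card_dvd_factorial (H := (P : Subgroup S))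
      fun h => by rw [h, index_top] at h7; omega
    rw [h7, h6] at h8
    norm_num [Nat.factorial] at h8
  · have h1 := Cfsg.Agent.S0243.result hF 3 (by norm_num)
    rw [← Nat.card_congr e.toEquiv] at h1
    simp only [Fin.prod_univ_three, Fin.val_zero, Fin.val_one, Fin.val_two] at h1
    have h2 : Nat.card S = 5616 := by norm_num at h1; omega
    obtain ⟨a, m, ha, hn, hm⟩ := exists_mul (p := 13) (r := 432) h2 (by norm_num) (by norm_num)
    have h4 := ne_27 h2
    refine Or.inr (Or.inl ⟨rfl, ?_⟩)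
    have h5 : 1 + a * 13 ≤ 432 := Nat.le_of_dvd (by norm_num) ⟨m, hm.symm⟩
    have h6 : a ≤ 33 := by omega
    have h7 : 432 % (1 + a * 13) = 0 := Nat.mod_eq_zero_of_dvd ⟨m, hm.symm⟩
    rw [hn] at h4 ⊢
    interval_cases a <;> simp_all
  · obtain ⟨q, rfl⟩ : ∃ q, p = q + 3 := ⟨p - 3, by omega⟩
    have h1 := card_psl2 (q := q + 1) hF e
    have h0 : Nat.gcd 2 (q + 1) = 1 := by
      obtain ⟨j, hj⟩ := hp.out.odd_of_ne_two (by omega)
      exact Nat.prime_two.coprime_iff_not_dvd.2 (by omega)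
    have h2 : Nat.card S = (q + 3) * ((q + 2) * (q + 1)) := by rw [h0] at h1; linarith
    obtain ⟨a, m, ha, hn, hm⟩ := exists_mul h2 (fun h => by
      rcases (Nat.Prime.dvd_mul hp.out).1 h with h | h <;>
      · have := Nat.le_of_dvd (by omega) h; omega) (by nlinarith)
    obtain ⟨b, hb⟩ := arith_mod (r := q) (c := 2) (hm.trans (by ring)) (by omega)
    have h4 : b = 0 := by
      subst hb
      by_contra h5
      have h6 : (1 + 1 * (q + 3)) * (1 * (q + 3) + 2) ≤ (1 + a * (q + 3)) * (b * (q + 3) + 2) := by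
        have := Nat.pos_of_ne_zero h5
        gcongr <;> omega
      nlinarith
    subst h4
    refine Or.inr (Or.inr (Or.inl ⟨h3, ⟨k, hk⟩, ?_⟩))
    rw [hn, Nat.add_sub_cancel]
    subst hb
    linarith
  · have h1 := card_psl2 hF e
    have h0 : Nat.gcd 2 p = 1 := by
      obtain ⟨j, hj⟩ := hp.out.odd_of_ne_two (by omega)
      exact Nat.prime_two.coprime_iff_not_dvd.2 (by omega)
    have h2 : Nat.card S = p * ((p + 1) * (p + 2)) := by rw [h0] at h1; linarith
    obtain ⟨a, m, ha, hn, hm⟩ := exists_mul h2 (fun h => by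
      rcases (Nat.Prime.dvd_mul hp.out).1 h with h | h <;>
      · have := Nat.le_of_dvd (by omega) ((Nat.dvd_add_right (dvd_refl p)).1 h); omega)
      (by nlinarith)
    obtain ⟨b, hb⟩ := arith_mod (r := p + 3) (c := 2) (hm.trans (by ring)) (by omega)
    subst hb
    rcases Nat.eq_zero_or_pos b with rfl | h5
    · refine Or.inr (Or.inr (Or.inr ⟨h3, ⟨k, hk⟩, ?_⟩))
      rw [hn]
      linarith
    · refine Or.inl ⟨h3, ?_⟩
      have h4 : a = 1 := by
        by_contra h4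
        have h6 : (1 + 2 * p) * (1 * p + 2) ≤ (1 + a * p) * (b * p + 2) := by
          gcongr <;> omega
        nlinarith
      rw [hn, h4, one_mul]

end simple

omit hp in
theorem Num.lt {n : ℕ} (h : Num p n) : n < p ^ 2 := by
  rcases h with ⟨h3, rfl⟩ | ⟨rfl, rfl⟩ | ⟨h3, -, h⟩ | ⟨h3, -, h⟩
  · nlinarith
  · norm_num
  · obtain ⟨q, rfl⟩ : ∃ q, p = q + 3 := ⟨p - 3, by omega⟩
    rw [Nat.add_sub_cancel] at h
    nlinarith
  · nlinarith

omit hp in
theorem Num.ne_one {n : ℕ} (h : Num p n) : n ≠ 1 := by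
  rcases h with ⟨h3, rfl⟩ | ⟨rfl, rfl⟩ | ⟨h3, -, h⟩ | ⟨h3, -, h⟩
  · omega
  · norm_num
  · obtain ⟨q, rfl⟩ : ∃ q, p = q + 4 := ⟨p - 4, by omega⟩
    rw [show q + 4 - 3 = q + 1 by omega] at h
    rintro rfl
    nlinarith
  · rintro rfl
    nlinarith

/-- the converse direction of the theorem on simple groups -/
theorem lt_of_concl {S : Type*} [Group S] [Finite S] [IsSimpleGroup S]
    (hS : ¬ IsMulCommutative S) (h : Concl p S) : Nat.card (Sylow p S) < p ^ 2 :=
  (num_of_concl hS h).lt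

theorem eq_one_or {a b : ℕ} (ha : a % p = 1) (hb : b % p = 1) (h : a * b < p ^ 2) :
    a = 1 ∨ b = 1 := by
  by_contra h1
  push Not at h1
  have key : ∀ c, c % p = 1 → c ≠ 1 → p ≤ c := fun c h1 h2 => by
    by_contra h3
    rw [Nat.mod_eq_of_lt (by omega)] at h1
    exact h2 h1
  have := Nat.mul_le_mul (key a ha h1.1) (key b hb h1.2)
  rw [pow_two] at h
  omega

/-- powers of primes, `1` included -/
def PP (n : ℕ) : Prop := ∃ q k : ℕ, q.Prime ∧ n = q ^ k

theorem pp_one : PP 1 := ⟨2, 0, Nat.prime_two, rfl⟩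

theorem induct (C : ∀ (X : Type u) [Group X], Prop)
    (hsub : ∀ (X : Type u) [Group X] (H : Subgroup X), C X → C H)
    (hquo : ∀ (X : Type u) [Group X] (H : Subgroup X) [H.Normal], C X → C (X ⧸ H))
    (B : ℕ → Prop) (hB : ∀ n, PP n → B n)
    (hsimple : ∀ (S : Type u) [Group S] [Finite S], IsSimpleGroup S → C S →
      Nat.card (Sylow p S) < p ^ 2 → B (Nat.card (Sylow p S)))
    (G : Type u) [Group G] [Finite G] (hG : C G) (hn : Nat.card (Sylow p G) < p ^ 2) :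
    B (Nat.card (Sylow p G)) := by
  have h1p : 1 % p = 1 := Nat.mod_eq_of_lt hp.out.one_lt
  refine (Fgs.card_sylow_induction p C hsub hquo (fun n => n % p = 1 ∧ (n < p ^ 2 → B n))
    ⟨h1p, fun _ => hB 1 pp_one⟩ ?_ ?_ (fun S _ _ h1 h2 => ⟨PSL2Rec.card_sylow_mod, hsimple S h1 h2⟩)
    G hG).2 hn
  · rintro a b - - ⟨h1, h2⟩ ⟨h3, h4⟩
    refine ⟨by rw [Nat.mul_mod, h1, h3, one_mul, h1p], fun h => ?_⟩
    rcases eq_one_or h1 h3 h with rfl | rfl
    · rw [one_mul] at h ⊢; exact h4 h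
    · rw [mul_one] at h ⊢; exact h2 h
  · intro n hn0 h
    have h0 : ∀ s : Finset ℕ, s ⊆ n.primeFactors → (∏ q ∈ s, q ^ n.factorization q) % p = 1 :=
      fun s hs => by
        have := Nat.ModEq.prod (s := s) (n := p) (g := fun _ => 1)
          fun q hq => h q (Nat.prime_of_mem_primeFactors (hs hq))
        rwa [Finset.prod_const_one, Nat.ModEq, h1p] at this
    have h1 : ∏ q ∈ n.primeFactors, q ^ n.factorization q = n :=
      Nat.prod_factorization_pow_eq_self hn0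
    refine ⟨h1 ▸ h0 _ le_rfl, fun h2 => hB n ?_⟩
    rcases n.primeFactors.eq_empty_or_nonempty with h3 | ⟨q, hq⟩
    · rw [← h1, h3]; exact pp_one
    · have hq' := Nat.prime_of_mem_primeFactors hq
      rw [← Finset.mul_prod_erase _ _ hq] at h1
      have h4 := h q hq'
      rw [Nat.ModEq, h1p] at h4
      rcases eq_one_or h4 (h0 _ (Finset.erase_subset q _)) (h1.symm ▸ h2) with h5 | h5
      · exact absurd ((Nat.pow_eq_one.1 h5).resolve_left hq'.ne_one)
          (hq'.factorization_pos_of_dvd hn0 (Nat.dvd_of_mem_primeFactors hq)).ne'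
      · exact ⟨q, _, hq', by rw [h5, mul_one] at h1; exact h1.symm⟩

theorem s4338 (H : Fwd.{u} p) {G : Type u} [Group G] [Finite G]
    (hn : Nat.card (Sylow p G) < p ^ 2) :
    (∃ q k : ℕ, q.Prime ∧ Nat.card (Sylow p G) = q ^ k) ∨
    (p = 13 ∧ Nat.card (Sylow p G) = 144) ∨
    (p ≠ 2 ∧ (¬ ∃ k : ℕ, p + 1 = 2 ^ k) ∧ Nat.card (Sylow p G) = 1 + p) ∨
    (3 < p ∧ (∃ k : ℕ, p = 2 ^ k + 1) ∧ 2 * Nat.card (Sylow p G) = 2 + (p - 3) * p) ∨
    (3 < p ∧ (∃ k : ℕ, p + 1 = 2 ^ k) ∧ 2 * Nat.card (Sylow p G) = 2 + (p + 3) * p) := by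
  have h := induct (p := p) (fun _ _ => True) (fun _ _ _ _ => trivial) (fun _ _ _ _ _ => trivial)
    (fun n => PP n ∨ Num p n) (fun _ => Or.inl) (fun S _ _ _ _ h => by
      by_cases h1 : Nat.card (Sylow p S) = 1
      · exact Or.inl (h1 ▸ pp_one)
      · have h2 := SylNum.not_comm_of_card_sylow h1
        exact Or.inr (num_of_concl h2 (H S h2 (SylNum.dvd_card_of_card_sylow h1) h))) G trivial hn
  rcases h with h | ⟨h3, h⟩ | h | h | h
  · exact Or.inl h
  · by_cases h4 : ∃ k : ℕ, p + 1 = 2 ^ k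
    · obtain ⟨k, hk⟩ := h4
      exact Or.inl ⟨2, k, Nat.prime_two, by omega⟩
    · exact Or.inr (Or.inr (Or.inl ⟨by omega, h4, h⟩))
  · exact Or.inr (Or.inl h)
  · exact Or.inr (Or.inr (Or.inr (Or.inl h)))
  · exact Or.inr (Or.inr (Or.inr (Or.inr h)))

theorem num_of_not_solv (H : Fwd.{u} p) (G : Type u) [Group G] [Finite G]
    (hG : ¬ IsPSolvable p G) (hn : Nat.card (Sylow p G) < p ^ 2) :
    Num p (Nat.card (Sylow p G)) := by
  induction hc : Nat.card G using Nat.strong_induction_on generalizing G with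
  | _ n ih =>
  subst hc
  have h1 : ¬ IsMulCommutative G := fun h => by
    haveI : Group.IsSolvable G := Group.isSolvable_of_comm fun a b => h.is_comm.comm a b
    exact hG PLocal.PSolv.of_isSolvable
  have h2 : p ∣ Nat.card G := by
    by_contra h2
    exact hG (PLocal.PSolv.of_coprime (hp.out.coprime_iff_not_dvd.2 h2).symm)
  by_cases hs : IsSimpleGroup G
  · exact num_of_concl h1 (H G h1 h2 hn)
  haveI : Nontrivial G := by
    by_contra h3
    rw [not_nontrivial_iff_subsingleton] at h3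
    exact h1 inferInstance
  obtain ⟨K, hK, h3, h4⟩ : ∃ K : Subgroup G, K.Normal ∧ K ≠ ⊥ ∧ K ≠ ⊤ := by
    by_contra h3
    push Not at h3
    exact hs ⟨fun K hK => or_iff_not_imp_left.2 (h3 K hK)⟩
  obtain ⟨P⟩ : Nonempty (Sylow p G) := inferInstance
  haveI : (((P : Subgroup G) ⊓ K).subgroupOf (((P : Subgroup G) ⊔ K) ⊓
      normalizer (((P : Subgroup G) ⊓ K : Subgroup G) : Set G))).Normal :=
    normal_subgroupOf_of_le_normalizer inf_le_right
  obtain ⟨c, h5, m3⟩ : ∃ c, Nat.card (Sylow p G) =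
      Nat.card (Sylow p (G ⧸ K)) * Nat.card (Sylow p K) * c ∧ c % p = 1 :=
    ⟨_, Cfsg.Agent.S4341.result p K P _ rfl, PSL2Rec.card_sylow_mod⟩
  have h1p : 1 % p = 1 := Nat.mod_eq_of_lt hp.out.one_lt
  have m1 := PSL2Rec.card_sylow_mod (p := p) (G := G ⧸ K)
  have m2 := PSL2Rec.card_sylow_mod (p := p) (G := K)
  have key : ∀ a b, b % p = 1 → a % p = 1 → Nat.card (Sylow p G) = a * b →
      (a < p ^ 2 → Num p a) → Num p (Nat.card (Sylow p G)) := fun a b hb ha h h' => by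
    have hb0 : 0 < b := Nat.pos_of_ne_zero fun e => by simp [e] at hb
    have h6 := h' (lt_of_le_of_lt (h ▸ Nat.le_mul_of_pos_right a hb0) hn)
    rw [h, (eq_one_or ha hb (h ▸ hn)).resolve_left h6.ne_one, mul_one]
    exact h6
  have h6 := K.card_mul_index
  by_cases h7 : IsPSolvable p K
  · refine key _ _ (by rw [Nat.mul_mod, m2, m3, one_mul, h1p]) m1 (h5.trans (mul_assoc _ _ _))
      fun h => ih _ ?_ (G ⧸ K) (fun h8 => hG (PLocal.PSolv.of_normal_of_quotient K h7 h8)) h rfl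
    exact lt_of_le_of_ne (Nat.le_of_dvd Nat.card_pos (card_quotient_dvd_card K)) fun e =>
      h3 (card_eq_one.1 (Nat.eq_of_mul_eq_mul_right (Nat.card_pos (α := G)) (by
        rw [one_mul]; nth_rw 1 [← e]; exact h6)))
  · refine key _ (Nat.card (Sylow p (G ⧸ K)) * c) (by rw [Nat.mul_mod, m1, m3, one_mul, h1p]) m2
      (h5.trans (by ring)) fun h => ih _ ?_ K h7 h rfl
    exact lt_of_le_of_ne (card_le_card_group K) fun e => h4 (eq_top_of_card_eq K e)

theorem not_pp {n : ℕ} (hp' : ¬ (3 < p ∧ ∃ k : ℕ, p + 1 = 2 ^ k)) (h : Num p n) : ¬ PP n := by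
  rintro ⟨q, k, hq, rfl⟩
  have two : 2 ∣ q ^ k → q = 2 := fun h =>
    ((Nat.prime_dvd_prime_iff_eq Nat.prime_two hq).1 (Nat.prime_two.dvd_of_dvd_pow h)).symm
  rcases h with ⟨h3, h⟩ | ⟨-, h⟩ | ⟨h3, ⟨j, hj⟩, h⟩ | ⟨h3, h, -⟩
  · obtain ⟨j, hj⟩ := hp.out.odd_of_ne_two (by omega)
    obtain rfl := two ⟨j + 1, by omega⟩
    exact hp' ⟨h3, k, by omega⟩
  · obtain rfl := two ⟨72, h⟩
    have := Nat.prime_three.dvd_of_dvd_pow (⟨48, h⟩ : 3 ∣ 2 ^ k)
    omega
  · obtain ⟨i, rfl⟩ : ∃ i, j = i + 2 := by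
      rcases j with _ | _ | j
      · omega
      · omega
      · exact ⟨j, rfl⟩
    have h0 : 0 < 2 ^ i := by positivity
    obtain ⟨a, ha⟩ : ∃ a, 2 ^ i = a + 1 := ⟨2 ^ i - 1, by omega⟩
    rw [pow_add, ha] at hj
    have h1 : q ^ k = 2 * ((a + 1) * (4 * a + 3)) := by
      rw [show p - 3 = 4 * a + 2 by omega, show p = 4 * a + 5 by omega] at h
      linarith
    obtain rfl := two ⟨_, h1⟩
    obtain ⟨l, -, hl⟩ := (Nat.dvd_prime_pow Nat.prime_two).1
      (⟨2 * (a + 1), by rw [h1]; ring⟩ : 4 * a + 3 ∣ 2 ^ k)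
    rcases l with _ | l
    · omega
    · rw [pow_succ] at hl; omega
  · exact hp' ⟨h3, h⟩

theorem s4339 (H : Fwd.{u} p) {G : Type u} [Group G] [Finite G]
    (hp' : ¬ (3 < p ∧ ∃ k : ℕ, p + 1 = 2 ^ k)) (hn : Nat.card (Sylow p G) < p ^ 2) :
    IsPSolvable p G ↔ ∃ q k : ℕ, q.Prime ∧ Nat.card (Sylow p G) = q ^ k := by
  refine ⟨fun h => induct (p := p) (fun X _ => IsPSolvable p X)
    (fun _ _ K h => PLocal.PSolv.subgroup h K) (fun _ _ K _ h => PLocal.PSolv.quotient h K)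
    PP (fun _ h => h) (fun S _ _ _ h _ => ?_) G h hn,
    fun h => by_contra fun h1 => not_pp hp' (num_of_not_solv H G h1 hn) h⟩
  obtain ⟨K, hK, h1, -, h2⟩ := PLocal.PSolv.exists_normal_le h ⊤ top_ne_bot
  obtain rfl := hK.eq_bot_or_eq_top.resolve_left h1
  rcases h2 with h2 | h2
  · rw [Fgs.card_sylow_of_isPGroup (h2.of_equiv topEquiv)]; exact pp_one
  · by_cases h3 : Nat.card (Sylow p S) = 1
    · exact h3 ▸ pp_one
    · rw [card_top] at h2
      exact absurd (SylNum.dvd_card_of_card_sylow h3) (hp.out.coprime_iff_not_dvd.1 h2.symm)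

end CfsgLib.FewSylW
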